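import Cfsg.Agent.H910.CC.Geo

/-!
# S4793 RANK1: `zero_on`, `not_noRef_mul` (helper910, task 3823)
-/

set_option autoImplicit false

open Cfsg
open scoped ComplexConjugate

namespace Cfsg.Agent.H910.CC

open Module Cfsg.Agent.H603.CC Cfsg.Agent.Characters.Core Cfsg.Agent.Characters
open Cfsg.Agent.H161.CC (UE FixS_le_UE FixS_comm_UE FixS_comm_Ref Ref_norm_UE Ref_inf_UE exists_ue mem_FixS_of_ue commutator_ue
  conj_ue)
open Cfsg.Agent.H174.CC (IsZ exists_z exists_zz z_ext z_mul_right z_mul_left z_inv z_smul exists_z_self FixS_le_closure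
  exists_psi)

universe u v

variable {F : Type u} {V : Type v} [Field F] [AddCommGroup V] [Module F V] {q : ℕ} {σ : F →+* F}
  {B : V →ₛₗ[σ] V →ₗ[F] F} [Finite F] [Finite V]

/-- two homomorphisms on `Z_E` agreeing on the `z(e, e')` are equal -/
theorem hom_ext (h : HS q σ B) {E : Submodule F V} (hE : IsTS B E) {A : Type*} [Group A]
    {l l' : FixS B (perp B E) →* A}
    (hl : ∀ (z : FixS B (perp B E)) (e e' : E), IsZ B (z : UU B) (e : V) (e' : V) → l z = l' z) : l = l' := by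
  have h1 : FixS B (perp B E) ≤ (MonoidHom.eqLocus l l').map (FixS B (perp B E)).subtype := by
    refine FixS_le_closure h hE fun e he e' he' z hz => ?_
    obtain ⟨z', hz'⟩ := exists_z h hE he he'
    have h2 : (z' : UU B) = z := z_ext hz' hz
    exact ⟨z', hl z' ⟨e, he⟩ ⟨e', he'⟩ hz', h2⟩
  ext z
  obtain ⟨z', hz', e⟩ := h1 z.2
  have h2 : z' = z := Subtype.ext e
  rw [← h2]
  exact hz'

theorem conj_mem_Z {E : Submodule F V} {γ : UU B} (hγ : ∀ e ∈ E, ac B γ e ∈ E) {z : UU B}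
    (hz : z ∈ FixS B (perp B E)) : γ * z * γ⁻¹ ∈ FixS B (perp B E) := by
  intro w hw
  rw [ac_mul, ac_mul, hz, ac_ac_inv]
  intro e he
  have h1 := form_ac γ e (ac B γ⁻¹ w)
  rw [ac_ac_inv] at h1
  rw [← h1]
  exact hw _ (hγ e he)

theorem conj_isZ {γ z : UU B} {e e' : V} (hz : IsZ B z e e') : IsZ B (γ * z * γ⁻¹) (ac B γ e) (ac B γ e') := by
  intro x
  rw [ac_mul, ac_mul, hz, ac_sub, ac_add, ac_smul, ac_smul, ac_ac_inv]
  have h1 : ∀ y, B (ac B γ y) x = B y (ac B γ⁻¹ x) := by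
    intro y
    have := form_ac γ y (ac B γ⁻¹ x)
    rwa [ac_ac_inv] at this
  rw [h1, h1]

/-- conjugation on `Z_E` -/
def cjZ {E : Submodule F V} {γ : UU B} (hγ : ∀ e ∈ E, ac B γ e ∈ E) :
    FixS B (perp B E) →* FixS B (perp B E) where
  toFun z := ⟨γ * z * γ⁻¹, conj_mem_Z hγ z.2⟩
  map_one' := by
    apply Subtype.ext
    simp
  map_mul' a b := by
    apply Subtype.ext
    simp [mul_assoc]

theorem cjZ_injective {E : Submodule F V} {γ : UU B} (hγ : ∀ e ∈ E, ac B γ e ∈ E) :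
    Function.Injective (cjZ hγ) := by
  intro a b hab
  have h1 : γ * a * γ⁻¹ = γ * b * γ⁻¹ := congrArg (fun z : FixS B (perp B E) => (z : UU B)) hab
  have h2 := mul_right_cancel h1
  exact Subtype.ext (mul_left_cancel h2)

/-- **Transitivity** on the characters of `Z_E` with forms of the same rank. -/
theorem sum_eq_of_rank (h : HS q σ B) {E : Submodule F V} (hE : IsTS B E) {ψ : AddChar F ℂ}
    {l l' : FixS B (perp B E) →* ℂˣ} {C C' : E →ₛₗ[σ] E →ₗ[F] F} (hC : FormOf ψ l C) (hC' : FormOf ψ l' C')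
    (hk : finrank F (LinearMap.ker C) = finrank F (LinearMap.ker C')) {Δ : UU B → ℂ}
    (hcl : IsClassFunction (UU B) Δ) :
    ∑ᶠ z : FixS B (perp B E), Δ z * ((l z)⁻¹ : ℂˣ) = ∑ᶠ z : FixS B (perp B E), Δ z * ((l' z)⁻¹ : ℂˣ) := by
  obtain ⟨g, hg⟩ := Cfsg.Agent.H118.CC.exists_isometry_of_rank h.two_le h.card h.sig C C' hC.1 hC'.1 rfl hk
  obtain ⟨γ, hγ⟩ := witt h E (E.subtype.comp g.toLinearMap)
    (fun a b hab => g.injective (Subtype.ext hab))
    (fun x x' => by
      rw [hE _ x.2 _ x'.2]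
      exact hE _ (g x).2 _ (g x').2)
  have hγ' : ∀ x : E, ac B γ x = g x := hγ
  have hγE : ∀ e ∈ E, ac B γ e ∈ E := fun e he => by
    rw [hγ' ⟨e, he⟩]
    exact (g ⟨e, he⟩).2
  have h1 : l'.comp (cjZ hγE) = l := by
    refine hom_ext h hE fun z e e' hz => ?_
    apply Units.ext
    rw [hC.2.2 z e e' hz]
    have h2 : IsZ B (γ * z * γ⁻¹ : UU B) ((g e : E) : V) ((g e' : E) : V) := by
      rw [← hγ', ← hγ']
      exact conj_isZ hz
    rw [MonoidHom.comp_apply, hC'.2.2 (cjZ hγE z) (g e) (g e') h2, hg]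
  have := Fintype.ofFinite (FixS B (perp B E))
  rw [finsum_eq_sum_of_fintype, finsum_eq_sum_of_fintype]
  have hbij : Function.Bijective (cjZ hγE) := Finite.injective_iff_bijective.1 (cjZ_injective hγE)
  refine Fintype.sum_equiv (Equiv.ofBijective _ hbij) _ _ fun z => ?_
  rw [Equiv.ofBijective_apply, ← h1, MonoidHom.comp_apply]
  congr 1
  exact (hcl z γ).symm

theorem exists_skew (h : HS q σ B) : ∃ b : F, b ≠ 0 ∧ b + σ b = 0 := by
  have h1 := h.ne_id
  have h2 : ∃ a, σ a ≠ a := by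
    by_contra hcon
    push Not at hcon
    exact h1 (RingHom.ext hcon)
  obtain ⟨a, ha⟩ := h2
  refine ⟨a - σ a, fun h3 => ha (sub_eq_zero.1 h3).symm, ?_⟩
  rw [map_sub, h.inv]
  ring

theorem tv_of_form {z : UU B} {e : V} {b : F} (hz : ∀ x, ac B z x = x + (b * B e x) • e) (he : B e e = 0)
    (hz1 : z ≠ 1) : IsTv z := by
  refine ⟨hz1, e, ?_, he, ?_⟩
  · rintro rfl
    apply hz1
    refine ac_ext fun x => ?_
    rw [hz, smul_zero, add_zero, ac_one]
  · intro x hx
    rw [hz, hx e (Submodule.mem_span_singleton_self e), mul_zero, zero_smul, add_zero]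

/-- a nontrivial character of `Z_E` is nontrivial at a transvection -/
theorem exists_tv_ne (h : HS q σ B) {E : Submodule F V} (hE : IsTS B E) {l : FixS B (perp B E) →* ℂˣ}
    (hl : l ≠ 1) : ∃ t : FixS B (perp B E), IsTv (t : UU B) ∧ l t ≠ 1 := by
  by_contra hcon
  push Not at hcon
  apply hl
  refine hom_ext h hE fun z e e' hz => ?_
  rw [MonoidHom.one_apply]
  obtain ⟨b, hb0, hb⟩ := exists_skew h
  have key : ∀ (v : V) (hv : v ∈ E) (k : F), k + σ k = 0 → ∃ t : FixS B (perp B E), l t = 1 ∧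
      ∀ x, ac B (t : UU B) x = x + (k * B v x) • v := by
    intro v hv k hk
    obtain ⟨t, -, -, -, ht⟩ := exists_z_self h hE hv hk
    refine ⟨t, ?_, ht⟩
    by_cases h1 : (t : UU B) = 1
    · have h2 : t = 1 := Subtype.ext h1
      rw [h2, map_one]
    · exact hcon t (tv_of_form ht (hE v hv v hv) h1)
  have hσb : σ b = -b := by linear_combination hb
  have hc : b⁻¹ + σ b⁻¹ = 0 := by
    rw [map_inv₀, hσb, inv_neg, add_neg_cancel]
  obtain ⟨t1, h1, ht1⟩ := key ((e : V) + b⁻¹ • (e' : V)) (E.add_mem e.2 (E.smul_mem _ e'.2)) b hb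
  obtain ⟨t2, h2, ht2⟩ := key (e : V) e.2 (-b) (by rw [map_neg]; linear_combination -hb)
  obtain ⟨t3, h3, ht3⟩ := key (e' : V) e'.2 b⁻¹ hc
  have h4 : z = t1 * t2 * t3 := by
    apply Subtype.ext
    refine ac_ext fun x => ?_
    change ac B (z : UU B) x = ac B ((t1 : UU B) * (t2 : UU B) * (t3 : UU B)) x
    have e1 : B (e : V) (e : V) = 0 := hE _ e.2 _ e.2
    have e2 : B (e : V) (e' : V) = 0 := hE _ e.2 _ e'.2
    have e3 : B (e' : V) (e : V) = 0 := hE _ e'.2 _ e.2
    have e4 : B (e' : V) (e' : V) = 0 := hE _ e'.2 _ e'.2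
    have hb1 : b * b⁻¹ = 1 := mul_inv_cancel₀ hb0
    have hσb1 : σ b⁻¹ = -b⁻¹ := by linear_combination hc
    rw [ac_mul, ac_mul, ht3, ht2, ht1, hz]
    simp only [map_add, LinearMap.map_smulₛₗ, LinearMap.add_apply, LinearMap.smul_apply, map_smul, smul_eq_mul,
      e1, e2, e3, e4, mul_zero, add_zero, hσb1]
    have h5 : x + B (e : V) x • (e' : V) - B (e' : V) x • (e : V) =
        x + (b⁻¹ * B (e' : V) x) • (e' : V) + (-b * B (e : V) x) • (e : V) +
        (b * (B (e : V) x + -b⁻¹ * B (e' : V) x)) • ((e : V) + b⁻¹ • (e' : V)) := by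
      have h6 : b * (B (e : V) x + -b⁻¹ * B (e' : V) x) = b * B (e : V) x - B (e' : V) x := by
        linear_combination (-(B (e' : V) x)) * hb1
      rw [h6, smul_add, smul_smul]
      have h7 : (b * B (e : V) x - B (e' : V) x) * b⁻¹ = B (e : V) x - b⁻¹ * B (e' : V) x := by
        linear_combination (B (e : V) x) * hb1
      rw [h7]
      module
    rw [h5]
  rw [h4, map_mul, map_mul, h1, h2, h3, one_mul, one_mul]

/-- the data attached to a maximal totally singular subspace containing a given one -/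
theorem exists_max' (h : HS q σ B) (hodd : Odd (finrank F V)) {E : Submodule F V} (hE : IsTS B E) :
    ∃ E' : Submodule F V, E ≤ E' ∧ IsTS B E' ∧ ∃ f, B f f = 1 ∧ perp B E' = E' ⊔ Submodule.span F {f} := by
  obtain ⟨m, hm⟩ := hodd
  obtain ⟨E', h1, h2, h3⟩ := exists_max h (Or.inl hm) hE
  obtain ⟨f, -, h4, h5⟩ := exists_f h hm h2 h3
  exact ⟨E', h1, h2, f, h4, h5⟩

theorem rank_le {q r d : ℕ} (hq : 2 ≤ q) (hd : d ≤ q) (h : (q ^ 2) ^ r ≤ d ^ 2) : r ≤ 1 := by
  by_contra hr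
  have h1 : (q ^ 2) ^ 2 ≤ (q ^ 2) ^ r := Nat.pow_le_pow_right (by positivity) (by omega)
  have h2 : d ^ 2 ≤ q ^ 2 := Nat.pow_le_pow_left hd 2
  have h3 : q ^ 2 < (q ^ 2) ^ 2 := by
    have h4 : 4 ≤ q ^ 2 := by nlinarith
    nlinarith
  omega

theorem zero_on (h : HS q σ B) (hodd : Odd (finrank F V)) {Δ : UU B → ℂ} (hcl : IsClassFunction (UU B) Δ)
    (hs : Star Δ) (h1 : Δ 1 = 0) (ht : ∀ t, IsTv t → Δ t = 0) {E : Submodule F V} (hE : IsTS B E) {g : UU B}
    (hg : g ∈ FixS B (perp B E)) : Δ g = 0 := by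
  classical
  obtain ⟨E', hEE, hE', f, hf, hfE⟩ := exists_max' h hodd hE
  have hg' : g ∈ FixS B (perp B E') := fun w hw => hg w fun x hx => hw x (hEE hx)
  have := Fintype.ofFinite (UU B)
  have : Finite (IrrCharacter (UU B)) := finite_irr
  have := Fintype.ofFinite (IrrCharacter (UU B))
  have := Fintype.ofFinite (FixS B (perp B E'))
  obtain ⟨ψ, hψ, hψC⟩ := exists_psi F q σ h.two_le h.card h.sig
  have hC : ∀ l : FixS B (perp B E') →* ℂˣ, ∃ C : E' →ₛₗ[σ] E' →ₗ[F] F, FormOf ψ l C := hψC V B h E' hE'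
  choose C hC using hC
  refine abs_zero (Z := FixS B (perp B E')) (fun a b => Subtype.ext (FixS_comm_UE h hE' a.2 (FixS_le_UE hE' b.2)))
    (fun z => Δ (z : UU B)) {l | l ≠ 1 ∧ finrank F (LinearMap.ker (C l)) + 1 = finrank F E'} ?_ ?_ h1 ?_ ⟨g, hg'⟩
  · intro l hlS hl1
    by_contra hne
    apply hlS
    refine ⟨hl1, ?_⟩
    -- a character without reflection-fixed vectors over `l`
    have h2 : ∃ χ : IrrCharacter (UU B), NoRef (χ : UU B → ℂ) ∧
        ∑ᶠ z : FixS B (perp B E'), (χ : UU B → ℂ) z * ((l z)⁻¹ : ℂˣ) ≠ 0 := by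
      by_contra hcon
      push Not at hcon
      apply hne
      rw [finsum_eq_sum_of_fintype]
      have h3 : ∀ z : UU B, Δ z = ∑ χ : IrrCharacter (UU B), classInner Δ (χ : UU B → ℂ) * (χ : UU B → ℂ) z := by
        intro z
        conv_lhs => rw [classFunction_eq_sum hcl]
        rw [Finset.sum_apply]
        exact Finset.sum_congr rfl fun χ _ => by rw [Pi.smul_apply, smul_eq_mul]
      simp_rw [h3, Finset.sum_mul]
      rw [Finset.sum_comm]
      refine Finset.sum_eq_zero fun χ _ => ?_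
      by_cases h4 : NoRef (χ : UU B → ℂ)
      · have h5 := hcon χ h4
        rw [finsum_eq_sum_of_fintype] at h5
        simp_rw [mul_assoc]
        rw [← Finset.mul_sum, h5, mul_zero]
      · have h5 := Cfsg.Agent.H212.CC.inner_eq_zero hcl hs χ.2 h4
        rw [h5]
        simp
    obtain ⟨χ, hχ, hχl⟩ := h2
    obtain ⟨d, hd1, hd2, -⟩ := heis_step h hE' hf hfE hψ (hC l) (isIrr_isCharacter χ.2) (hχ f hf) hχl
    have h3 := rank_le h.two_le hd1 hd2
    have h4 := (LinearMap.ker (C l)).finrank_quotient_add_finrank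
    have h5 : finrank F (E' ⧸ LinearMap.ker (C l)) ≠ 0 := by
      intro h6
      apply hl1
      apply (hC l).2.1
      have h7 : finrank F (LinearMap.ker (C l)) = finrank F E' := by omega
      exact LinearMap.ker_eq_top.1 (Submodule.eq_top_of_finrank_eq h7)
    omega
  · intro l hl l' hl'
    refine sum_eq_of_rank h hE' (hC l) (hC l') ?_ hcl
    have h2 := hl.2
    have h3 := hl'.2
    omega
  · intro l hl
    obtain ⟨t, ht1, ht2⟩ := exists_tv_ne h hE' hl.1
    exact ⟨t, ht2, ht _ ht1⟩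

theorem not_noRef_mul (h : HS q σ B) (hodd : Odd (finrank F V)) {χ : UU B → ℂ}
    (hχ : IsIrrCharacter (UU B) χ) (hn : NoRef χ) {t : UU B} (ht : IsTv t) (hne : χ t ≠ χ 1)
    {κ : Fˣ →* ℂˣ} (hκ : KNT q κ) : ¬ NoRef (fun g : UU B => χ g * dl κ g) := by
  classical
  obtain ⟨ht1, e, he0, hee, hte⟩ := ht
  have hE : IsTS B (Submodule.span F {e}) := by
    intro x hx y hy
    obtain ⟨a, rfl⟩ := Submodule.mem_span_singleton.1 hx
    obtain ⟨b, rfl⟩ := Submodule.mem_span_singleton.1 hy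
    simp [hee]
  obtain ⟨E', hEE, hE', f, hf, hfE⟩ := exists_max' h hodd hE
  have htE : t ∈ FixS B (perp B E') := fun w hw => hte w fun x hx => hw x (hEE hx)
  have := Fintype.ofFinite (FixS B (perp B E'))
  obtain ⟨ψ, hψ, hψC⟩ := exists_psi F q σ h.two_le h.card h.sig
  -- some nontrivial character of `Z` occurs
  have h2 : ∃ l : FixS B (perp B E') →* ℂˣ, l ≠ 1 ∧
      ∑ᶠ z : FixS B (perp B E'), χ z * ((l z)⁻¹ : ℂˣ) ≠ 0 := by
    by_contra hcon
    push Not at hcon
    apply hne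
    have h3 := abs_zero (Z := FixS B (perp B E'))
      (fun a b => Subtype.ext (FixS_comm_UE h hE' a.2 (FixS_le_UE hE' b.2)))
      (fun z => χ (z : UU B) - χ 1) ∅ (by
        intro l _ hl1
        have h4 := hcon l hl1
        rw [finsum_eq_sum_of_fintype] at h4 ⊢
        simp_rw [sub_mul]
        rw [Finset.sum_sub_distrib, h4, ← Finset.mul_sum, zero_sub, neg_eq_zero]
        have h5 : ∃ z0, l z0 ≠ 1 := by
          by_contra h6
          push Not at h6
          exact hl1 (MonoidHom.ext h6)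
        obtain ⟨z0, hz0⟩ := h5
        have h6 : ∑ z : FixS B (perp B E'), (((l z)⁻¹ : ℂˣ) : ℂ) =
            ((l z0)⁻¹ : ℂˣ) * ∑ z : FixS B (perp B E'), (((l z)⁻¹ : ℂˣ) : ℂ) := by
          conv_lhs => rw [← Equiv.sum_comp (Equiv.mulLeft z0)]
          rw [Finset.mul_sum]
          refine Finset.sum_congr rfl fun z _ => ?_
          rw [Equiv.coe_mulLeft, map_mul, mul_inv, Units.val_mul]
        have h7 : ∑ z : FixS B (perp B E'), (((l z)⁻¹ : ℂˣ) : ℂ) = 0 := by
          by_contra h8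
          have h9 := mul_right_cancel₀ h8 ((one_mul _).trans h6)
          apply hz0
          have h10 : (l z0)⁻¹ = 1 := Units.ext h9.symm
          exact inv_eq_one.1 h10
        rw [h7, mul_zero])
      (by simp) (by simp) (by simp) ⟨t, htE⟩
    exact sub_eq_zero.1 h3
  obtain ⟨l, hl1, hl⟩ := h2
  obtain ⟨C, hC⟩ : ∃ C : E' →ₛₗ[σ] E' →ₗ[F] F, FormOf ψ l C := hψC V B h E' hE' l
  obtain ⟨d, hd1, hd2, hd3⟩ := heis_step h hE' hf hfE hψ hC (isIrr_isCharacter hχ) (hn f hf) hl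
  have h5 : finrank F (E' ⧸ LinearMap.ker C) ≠ 0 := by
    intro h6
    apply hl1
    apply hC.2.1
    have h4 := (LinearMap.ker C).finrank_quotient_add_finrank
    have h7 : finrank F (LinearMap.ker C) = finrank F E' := by omega
    exact LinearMap.ker_eq_top.1 (Submodule.eq_top_of_finrank_eq h7)
  have hdq : d = q := by
    have h6 : (q ^ 2) ^ 1 ≤ (q ^ 2) ^ finrank F (E' ⧸ LinearMap.ker C) :=
      Nat.pow_le_pow_right (by have := h.two_le; positivity) (Nat.one_le_iff_ne_zero.2 h5)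
    rw [pow_one] at h6
    have h7 : q ^ 2 ≤ d ^ 2 := h6.trans hd2
    have h8 : q ≤ d := (Nat.pow_le_pow_iff_left (by norm_num)).1 h7
    omega
  intro hcon
  refine hd3 hdq ((κ.comp dt).comp (Ref B f).subtype) ?_ (hcon f hf)
  obtain ⟨a, ha, hκa⟩ := hκ
  have ha' : (a : F) ^ (q + 1) = 1 := by rw [← Units.val_pow_eq_pow_val, ha, Units.val_one]
  obtain ⟨ρ, hρ, hρx⟩ := exists_rf h hf ha'
  obtain ⟨c, -, hc, hdt⟩ := of_mem_Ref h hf hρ
  have hf0 : f ≠ 0 := by
    rintro rfl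
    rw [map_zero] at hf
    exact zero_ne_one hf
  have hca : c = a := by
    have h6 := (hc f).symm.trans (hρx f)
    rw [hf, mul_one, mul_one] at h6
    have h7 := add_left_cancel h6
    have h8 := smul_left_injective F hf0 h7
    exact sub_left_injective h8
  refine ⟨⟨ρ, hρ⟩, ?_⟩
  change κ (dt ρ) ≠ 1
  have h6 : dt ρ = a := Units.ext (by rw [hdt, hca])
  rw [h6]
  exact hκa

end Cfsg.Agent.H910.CC
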