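import Cfsg.Agent.H418.CC.Heis
import Cfsg.Agent.H603.CC.Defs
import Cfsg.Agent.CharactersDeep.PElem
import Cfsg.Agent.OddOrderCharacters.IndRes

/-!
# Characters of Heisenberg type with a group of reflections, relative version (helper910, S4793 RANK1)

* `abs_heis` : `U R ≤ G`, `Z ≤ U` central in `U R`, `X` a character of `G` without `R`-fixed vectors, `l` a linear character of
  `Z` occurring in `X`.
-/

set_option autoImplicit false

open Cfsg
open scoped ComplexConjugate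

namespace Cfsg.Agent.H910.CC

open Cfsg.Agent.Characters.Core Cfsg.Agent.OddOrderCharacters.IndRes Cfsg.Agent.Characters Subgroup

theorem sum_char_nat {A : Type*} [Group A] [Fintype A] {χ : A → ℂ} (hχ : IsCharacter A χ) :
    ∃ m : ℕ, ∑ a, χ a = m := by
  obtain ⟨m, hm⟩ := classInner_isNat hχ isCharacter_one
  refine ⟨Nat.card A * m, ?_⟩
  rw [Nat.cast_mul, ← hm, classInner_def, ← mul_assoc, mul_inv_cancel₀ card_ne_zero_complex, one_mul]
  simp

/-- a linear character of a central subgroup occurring in an irreducible character -/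
theorem mul_of_sum_ne {H : Type*} [Group H] [Finite H] (Z : Subgroup H) (hZ : Z ≤ center H) {M : H → ℂ}
    (hM : IsIrrCharacter H M) (l : Z →* ℂˣ) (hl : ∑ᶠ z : Z, M z * ((l z)⁻¹ : ℂˣ) ≠ 0) :
    ∀ (z : Z) (g : H), M (z * g) = (l z : ℂˣ) * M g := by
  have := Fintype.ofFinite Z
  have h0 : M 1 ≠ 0 := isIrr_apply_one_ne_zero hM
  have h1 : ∀ z : Z, ∃ c : ℂ, ∀ g, M (z * g) = c * M g := fun z => by
    obtain ⟨c, -, hc⟩ := Cfsg.Agent.CharactersDeep.PElem.exists_central_scalar hM (hZ z.2)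
    exact ⟨c, hc⟩
  intro z0 g
  obtain ⟨c, hc⟩ := h1 z0
  rw [hc]
  congr 1
  rw [finsum_eq_sum_of_fintype] at hl
  have h2 : ∑ z : Z, M z * ((l z)⁻¹ : ℂˣ) = (c * ((l z0)⁻¹ : ℂˣ)) * ∑ z : Z, M z * ((l z)⁻¹ : ℂˣ) := by
    conv_lhs => rw [← Equiv.sum_comp (Equiv.mulLeft z0)]
    rw [Finset.mul_sum]
    refine Finset.sum_congr rfl fun z _ => ?_
    rw [Equiv.coe_mulLeft, Subgroup.coe_mul, hc, map_mul, mul_inv]
    push_cast
    ring
  have h3 : c * ((l z0)⁻¹ : ℂˣ) = 1 := by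
    have h4 := mul_right_cancel₀ hl ((one_mul _).trans h2)
    exact h4.symm
  have h5 : ((l z0 : ℂˣ) : ℂ) ≠ 0 := (l z0).ne_zero
  rw [Units.val_inv_eq_inv_val] at h3
  field_simp at h3
  exact h3

theorem abs_heis {G : Type*} [Group G] [Finite G] (U R Z : Subgroup G)
    (hRU : ∀ ρ ∈ R, ∀ u ∈ U, ρ * u * ρ⁻¹ ∈ U) (hd : U ⊓ R = ⊥) (hZU : Z ≤ U)
    (hZc : ∀ z ∈ Z, ∀ u ∈ U, z * u = u * z) (hZR : ∀ z ∈ Z, ∀ ρ ∈ R, z * ρ = ρ * z)
    (hcomm : ∀ u ∈ U, ∀ w ∈ U, u * w * u⁻¹ * w⁻¹ ∈ Z)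
    (hconj : ∀ ρ ∈ R, ρ ≠ 1 → ∀ u ∈ U, ∃ w ∈ U, ∃ z ∈ Z, w * (ρ * u) * w⁻¹ = ρ * z)
    (K : Subgroup G) {X : G → ℂ} (hX : IsCharacter G X) (hR : ∑ᶠ ρ : R, X ρ = 0)
    (l : Z →* ℂˣ) (hl : ∑ᶠ z : Z, X z * ((l z)⁻¹ : ℂˣ) ≠ 0)
    (hK : ∀ u ∈ U, (∀ w ∈ U, ∀ hz : u * w * u⁻¹ * w⁻¹ ∈ Z, l ⟨_, hz⟩ = 1) → u ∈ K) :
    ∃ d : ℕ, d + 1 ≤ Nat.card R ∧ Nat.card U ≤ Nat.card K * d ^ 2 ∧
      (d + 1 = Nat.card R → ∀ ν : R →* ℂˣ, (∃ ρ, ν ρ ≠ 1) → ∑ᶠ ρ : R, X ρ * (ν ρ : ℂˣ) ≠ 0) := by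
  classical
  set H : Subgroup G := U ⊔ R with hH
  have hUH : U ≤ H := le_sup_left
  have hRH : R ≤ H := le_sup_right
  have hZH : Z ≤ H := hZU.trans hUH
  have := Fintype.ofFinite G
  have := Fintype.ofFinite H
  have := Fintype.ofFinite R
  have := Fintype.ofFinite Z
  have hfin : Finite (IrrCharacter H) := finite_irr
  have := Fintype.ofFinite (IrrCharacter H)
  set U' := U.subgroupOf H with hU'
  set R' := R.subgroupOf H with hR'
  set Z' := Z.subgroupOf H with hZ'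
  let eR : R' ≃* R := subgroupOfEquivOfLe hRH
  let eZ : Z' ≃* Z := subgroupOfEquivOfLe hZH
  let eU : U' ≃* U := subgroupOfEquivOfLe hUH
  have := Fintype.ofFinite R'
  have := Fintype.ofFinite Z'
  have hHn : H ≤ normalizer (U : Set G) := by
    refine sup_le le_normalizer ?_
    intro ρ hρ
    rw [mem_normalizer_iff]
    intro u
    refine ⟨hRU ρ hρ u, fun h => ?_⟩
    have := hRU ρ⁻¹ (inv_mem hρ) _ h
    simpa [mul_assoc] using this
  have hUn : U'.Normal := (normal_subgroupOf_iff_le_normalizer hUH).2 hHn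
  have hUR : U' ⊔ R' = ⊤ := by
    rw [hU', hR', ← subgroupOf_sup hUH hRH, subgroupOf_eq_top]
  have hd' : U' ⊓ R' = ⊥ := by
    rw [eq_bot_iff]
    rintro x ⟨h1, h2⟩
    have h3 : (x : G) ∈ U ⊓ R := ⟨h1, h2⟩
    rw [hd, mem_bot] at h3
    exact Subtype.ext h3
  have hZU' : Z' ≤ U' := fun x hx => hZU hx
  have hZcen : Z' ≤ center H := by
    intro z hz
    have h1 : H ≤ centralizer {(z : G)} := by
      refine sup_le (fun u hu => ?_) (fun ρ hρ => ?_)
      · rw [mem_centralizer_singleton_iff]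
        exact (hZc z hz u hu).symm
      · rw [mem_centralizer_singleton_iff]
        exact (hZR z hz ρ hρ).symm
    rw [mem_center_iff]
    intro g
    exact Subtype.ext (mem_centralizer_singleton_iff.1 (h1 g.2))
  have hconj' : ∀ ρ ∈ R', ρ ≠ 1 → ∀ u ∈ U', ∃ w : H, ∃ z ∈ Z', w * (ρ * u) * w⁻¹ = ρ * z := by
    intro ρ hρ hρ1 u hu
    obtain ⟨w, hw, z, hz, e⟩ := hconj ρ hρ (fun h => hρ1 (Subtype.ext h)) u hu
    exact ⟨⟨w, hUH hw⟩, ⟨z, hZH hz⟩, hz, Subtype.ext e⟩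
  have hcomm' : ∀ u ∈ U', ∀ w ∈ U', u * w * u⁻¹ * w⁻¹ ∈ Z' := fun u hu w hw => hcomm u hu w hw
  -- decompose the restriction
  obtain ⟨m, hm⟩ := exists_nat_comb (isCharacter_res H hX)
  have hval : ∀ g : H, X g = ∑ ψ : IrrCharacter H, (m ψ : ℂ) * (ψ : H → ℂ) g := by
    intro g
    have := congrFun hm g
    rw [res_apply] at this
    rw [this]
    simp
  -- the sums over `R`
  have hRsum : ∀ f : G → ℂ, ∑ ρ : R, f ρ = ∑ ρ : R', f ((ρ : H) : G) := fun f =>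
    (Fintype.sum_equiv eR.toEquiv (fun ρ : R' => f ((ρ : H) : G)) (fun ρ : R => f ρ) (fun ρ => rfl)).symm
  have hn : ∀ ψ : IrrCharacter H, ∃ k : ℕ, ∑ ρ : R', (ψ : H → ℂ) ρ = k := fun ψ =>
    sum_char_nat (isCharacter_res R' (isIrr_isCharacter ψ.2))
  choose k hk using hn
  have hzero : ∀ ψ : IrrCharacter H, m ψ ≠ 0 → ∑ ρ : R', (ψ : H → ℂ) ρ = 0 := by
    have h1 : ∑ ψ : IrrCharacter H, m ψ * k ψ = 0 := by
      have h2 : ((∑ ψ : IrrCharacter H, m ψ * k ψ : ℕ) : ℂ) = 0 := by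
        rw [← hR, finsum_eq_sum_of_fintype, hRsum X]
        push_cast
        simp_rw [hval]
        rw [Finset.sum_comm]
        refine Finset.sum_congr rfl fun ψ _ => ?_
        rw [← hk, Finset.mul_sum]
      exact_mod_cast h2
    intro ψ hψ
    have h3 := (Finset.sum_eq_zero_iff.1 h1) ψ (Finset.mem_univ _)
    rw [hk]
    rcases Nat.mul_eq_zero.1 h3 with h4 | h4
    · exact absurd h4 hψ
    · rw [h4, Nat.cast_zero]
  -- a constituent over `l`
  let l' : Z' →* ℂˣ := l.comp eZ.toMonoidHom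
  obtain ⟨M, hMm, hMl⟩ : ∃ ψ : IrrCharacter H, m ψ ≠ 0 ∧ ∑ᶠ z : Z', (ψ : H → ℂ) z * ((l' z)⁻¹ : ℂˣ) ≠ 0 := by
    by_contra hcon
    push Not at hcon
    apply hl
    rw [finsum_eq_sum_of_fintype]
    have h1 : ∑ z : Z, X z * ((l z)⁻¹ : ℂˣ) = ∑ z : Z', X ((z : H) : G) * ((l' z)⁻¹ : ℂˣ) :=
      (Fintype.sum_equiv eZ.toEquiv (fun z : Z' => X ((z : H) : G) * ((l' z)⁻¹ : ℂˣ)) _ (fun z => rfl)).symm
    rw [h1]
    simp_rw [hval, Finset.sum_mul]
    rw [Finset.sum_comm]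
    refine Finset.sum_eq_zero fun ψ _ => ?_
    by_cases h2 : m ψ = 0
    · simp [h2]
    · have h3 := hcon ψ h2
      rw [finsum_eq_sum_of_fintype] at h3
      simp_rw [mul_assoc]
      rw [← Finset.mul_sum, h3, mul_zero]
  have hMmul := mul_of_sum_ne Z' hZcen M.2 l' hMl
  have hMfix : ∑ᶠ ρ : R', (M : H → ℂ) (ρ : H) = 0 := by
    rw [finsum_eq_sum_of_fintype]; exact hzero M hMm
  obtain ⟨hd1, hd2⟩ := Cfsg.Agent.H418.CC.heis_ref U' R' Z' hUR hd' hZU' hZcen hconj' M.2 hMfix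
  have hd3 := Cfsg.Agent.H418.CC.heis_deg U' Z' hcomm' (K.subgroupOf H) (isIrr_isCharacter M.2)
    (isIrr_apply_one_ne_zero M.2) l' hMmul (by
      intro u hu h1
      rw [mem_subgroupOf]
      refine hK u hu fun w hw hz => ?_
      exact h1 ⟨w, hUH hw⟩ hw hz)
  have hcR : Nat.card R' = Nat.card R := Nat.card_congr eR.toEquiv
  have hcU : Nat.card U' = Nat.card U := Nat.card_congr eU.toEquiv
  refine ⟨charDegree (M : H → ℂ), by rw [← hcR]; exact hd1, ?_, ?_⟩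
  · rw [← hcU]
    refine hd3.trans (Nat.mul_le_mul_right _ ?_)
    exact Nat.card_le_card_of_injective (fun x : K.subgroupOf H => (⟨((x : H) : G), x.2⟩ : K)) (by
      intro a b hab
      have h1 : ((a : H) : G) = ((b : H) : G) := congrArg (fun k : K => (k : G)) hab
      exact Subtype.ext (Subtype.ext h1))
  · intro he ν hν
    rw [← hcR] at he
    have hM1 := hd2 he
    let ν' : R' →* ℂˣ := ν.comp eR.toMonoidHom
    have hν' : ∑ ρ : R', ((ν' ρ : ℂˣ) : ℂ) = 0 := by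
      obtain ⟨ρ0, h0⟩ := hν
      have h1 : ((ν' (eR.symm ρ0) : ℂˣ) : ℂ) ≠ 1 := by
        intro h2
        apply h0
        have h3 : ν' (eR.symm ρ0) = ν ρ0 := by
          change ν (eR (eR.symm ρ0)) = _
          rw [MulEquiv.apply_symm_apply]
        rw [h3] at h2
        exact Units.ext h2
      have h2 : ∑ ρ : R', ((ν' ρ : ℂˣ) : ℂ) = (ν' (eR.symm ρ0) : ℂˣ) * ∑ ρ : R', ((ν' ρ : ℂˣ) : ℂ) := by
        conv_lhs => rw [← Equiv.sum_comp (Equiv.mulLeft (eR.symm ρ0))]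
        rw [Finset.mul_sum]
        refine Finset.sum_congr rfl fun z _ => ?_
        rw [Equiv.coe_mulLeft, map_mul, Units.val_mul]
      by_contra h3
      exact h1 (mul_right_cancel₀ h3 ((one_mul _).trans h2)).symm
    have hnat : ∀ ψ : IrrCharacter H, ∃ k : ℕ, ∑ ρ : R', (ψ : H → ℂ) ρ * (ν' ρ : ℂˣ) = k := fun ψ => by
      have h1 := sum_char_nat (isCharacter_mul (isCharacter_res R' (isIrr_isCharacter ψ.2))
        (Linear.isCharacter_hom ν'))
      exact h1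
    choose k' hk' using hnat
    have hMk : k' M ≠ 0 := by
      have h1 : ∑ ρ : R', (M : H → ℂ) ρ * (ν' ρ : ℂˣ) = (charDegree (M : H → ℂ) : ℂ) + 1 := by
        have h2 : ∀ ρ : R', (M : H → ℂ) ρ * (ν' ρ : ℂˣ) =
            -((ν' ρ : ℂˣ) : ℂ) + if ρ = 1 then ((charDegree (M : H → ℂ) : ℂ) + 1) else 0 := by
          intro ρ
          by_cases h3 : ρ = 1
          · rw [if_pos h3, h3, map_one, Units.val_one, mul_one]
            have h4 : (M : H → ℂ) 1 = (charDegree (M : H → ℂ) : ℂ) := by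
              obtain ⟨n, hn1, hn2⟩ := isIrr_apply_one M.2
              unfold charDegree
              rw [hn2]
              simp
            change (M : H → ℂ) 1 = _
            rw [h4]
            ring
          · rw [if_neg h3, hM1 ρ ρ.2 (fun h => h3 (Subtype.ext h))]
            ring
        simp_rw [h2]
        rw [Finset.sum_add_distrib, Finset.sum_neg_distrib, hν', neg_zero, zero_add, Finset.sum_ite_eq' , if_pos (Finset.mem_univ _)]
      intro h3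
      have h4 := hk' M
      rw [h1, h3, Nat.cast_zero] at h4
      have h5 : ((charDegree (M : H → ℂ) + 1 : ℕ) : ℂ) = 0 := by push_cast; exact h4
      exact absurd (Nat.cast_eq_zero.1 h5) (Nat.succ_ne_zero _)
    have h1 : ∑ ρ : R, X ρ * (ν ρ : ℂˣ) = ((∑ ψ : IrrCharacter H, m ψ * k' ψ : ℕ) : ℂ) := by
      have h2 : ∑ ρ : R, X ρ * (ν ρ : ℂˣ) = ∑ ρ : R', X ((ρ : H) : G) * (ν' ρ : ℂˣ) :=
        (Fintype.sum_equiv eR.toEquiv (fun ρ : R' => X ((ρ : H) : G) * (ν' ρ : ℂˣ)) _ (fun z => rfl)).symm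
      rw [h2]
      push_cast
      simp_rw [hval, Finset.sum_mul]
      rw [Finset.sum_comm]
      refine Finset.sum_congr rfl fun ψ _ => ?_
      rw [← hk', Finset.mul_sum]
      exact Finset.sum_congr rfl fun ρ _ => by ring
    rw [finsum_eq_sum_of_fintype, h1]
    have h2 : m M * k' M ≤ ∑ ψ : IrrCharacter H, m ψ * k' ψ :=
      Finset.single_le_sum (f := fun ψ => m ψ * k' ψ) (fun _ _ => Nat.zero_le _) (Finset.mem_univ M)
    have h3 : 0 < m M * k' M := Nat.mul_pos (Nat.pos_of_ne_zero hMm) (Nat.pos_of_ne_zero hMk)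
    exact Nat.cast_ne_zero.2 (by omega)

end Cfsg.Agent.H910.CC
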