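import Cfsg.Agent.Characters.CCBasic
import Cfsg.Agent.Characters.Linear
import Cfsg.Agent.Characters.Core

/-!
# Functions on a finite abelian group with few characters (helper910, S4793 RANK1)
-/

set_option autoImplicit false

open Cfsg
open scoped ComplexConjugate

namespace Cfsg.Agent.H910.CC

open Cfsg.Agent.Characters.Core Cfsg.Agent.Characters

theorem conj_hom {Z : Type*} [Group Z] [Finite Z] (l : Z →* ℂˣ) (z : Z) :
    conj ((l z : ℂˣ) : ℂ) = ((l z)⁻¹ : ℂˣ) := by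
  have h1 := Linear.norm_hom_apply l z
  rw [Units.val_inv_eq_inv_val, ← Complex.inv_eq_conj h1]

theorem re_lt_one {w : ℂ} (h1 : ‖w‖ = 1) (hw : w ≠ 1) : w.re < 1 := by
  have h2 : w.re ≤ 1 := by
    have := Complex.abs_re_le_norm w
    rw [h1] at this
    exact (abs_le.1 this).2
  rcases lt_or_eq_of_le h2 with h3 | h3
  · exact h3
  · exfalso
    apply hw
    have h4 : w.re * w.re + w.im * w.im = 1 := by
      have := Complex.normSq_eq_norm_sq w
      rw [h1, one_pow, Complex.normSq_apply] at this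
      exact this
    rw [h3] at h4
    have h5 : w.im = 0 := by
      have : w.im * w.im = 0 := by linarith
      exact mul_self_eq_zero.1 this
    exact Complex.ext h3 h5

theorem abs_zero {Z : Type*} [Group Z] [Finite Z] (hcomm : ∀ a b : Z, a * b = b * a) (D : Z → ℂ)
    (S : Set (Z →* ℂˣ))
    (hc1 : ∀ l : Z →* ℂˣ, l ∉ S → l ≠ 1 → ∑ᶠ z, D z * ((l z)⁻¹ : ℂˣ) = 0)
    (hc2 : ∀ l ∈ S, ∀ l' ∈ S, ∑ᶠ z, D z * ((l z)⁻¹ : ℂˣ) = ∑ᶠ z, D z * ((l' z)⁻¹ : ℂˣ))
    (hD1 : D 1 = 0) (hDt : ∀ l ∈ S, ∃ t, l t ≠ 1 ∧ D t = 0) : ∀ z, D z = 0 := by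
  classical
  have := Fintype.ofFinite Z
  have : Finite (IrrCharacter Z) := finite_irr
  have := Fintype.ofFinite (IrrCharacter Z)
  have hcl : IsClassFunction Z D := fun g h => by rw [hcomm h g, mul_inv_cancel_right]
  have hex : ∀ ψ : IrrCharacter Z, ∃ f : Z →* ℂˣ, (ψ : Z → ℂ) = fun a => (f a : ℂ) := fun ψ =>
    CCBasic.exists_hom_of_comm hcomm ψ.2
  choose l hl using hex
  have hsum := classFunction_eq_sum hcl
  set a : IrrCharacter Z → ℂ := fun ψ => classInner D (ψ : Z → ℂ) with ha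
  have ha' : ∀ ψ, a ψ = (Nat.card Z : ℂ)⁻¹ * ∑ᶠ z, D z * ((l ψ z)⁻¹ : ℂˣ) := by
    intro ψ
    rw [finsum_eq_sum_of_fintype]
    change classInner D (ψ : Z → ℂ) = _
    rw [classInner_def]
    congr 1
    refine Finset.sum_congr rfl fun z _ => ?_
    rw [congrFun (hl ψ) z, conj_hom]
  have hval : ∀ z, D z = ∑ ψ : IrrCharacter Z, a ψ * ((l ψ z : ℂˣ) : ℂ) := by
    intro z
    have h1 := congrFun hsum z
    rw [Finset.sum_apply] at h1
    rw [h1]
    refine Finset.sum_congr rfl fun ψ _ => ?_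
    rw [Pi.smul_apply, smul_eq_mul, congrFun (hl ψ) z]
  -- the common value
  obtain ⟨a0, ha0⟩ : ∃ a0 : ℂ, ∀ ψ, l ψ ∈ S → a ψ = a0 := by
    by_cases h : ∃ ψ, l ψ ∈ S
    · obtain ⟨ψ0, h0⟩ := h
      exact ⟨a ψ0, fun ψ hψ => by rw [ha', ha', hc2 _ hψ _ h0]⟩
    · push Not at h
      exact ⟨0, fun ψ hψ => absurd hψ (h ψ)⟩
  have hdiff : ∀ z, D z = a0 * ∑ ψ : IrrCharacter Z, (if l ψ ∈ S then ((l ψ z : ℂˣ) : ℂ) - 1 else 0) := by
    intro z
    have h1 : D z = D z - D 1 := by rw [hD1, sub_zero]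
    rw [h1, hval, hval, ← Finset.sum_sub_distrib, Finset.mul_sum]
    refine Finset.sum_congr rfl fun ψ _ => ?_
    by_cases h2 : l ψ ∈ S
    · rw [if_pos h2, ha0 ψ h2, map_one, Units.val_one]
      ring
    · rw [if_neg h2]
      by_cases h3 : l ψ = 1
      · rw [h3]; simp
      · rw [ha', hc1 _ h2 h3]; simp
  by_cases h : ∃ ψ, l ψ ∈ S
  · obtain ⟨ψ0, h0⟩ := h
    obtain ⟨t, ht, hDt'⟩ := hDt _ h0
    have h1 := hdiff t
    rw [hDt'] at h1
    have h2 : (∑ ψ : IrrCharacter Z, (if l ψ ∈ S then ((l ψ t : ℂˣ) : ℂ) - 1 else 0)) ≠ 0 := by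
      intro h3
      have h4 := congrArg Complex.re h3
      rw [Complex.re_sum, Complex.zero_re] at h4
      have h5 : ∀ ψ ∈ (Finset.univ : Finset (IrrCharacter Z)),
          (if l ψ ∈ S then ((l ψ t : ℂˣ) : ℂ) - 1 else 0 : ℂ).re ≤ 0 := by
        intro ψ _
        split_ifs
        · rw [Complex.sub_re, Complex.one_re]
          have h6 := Complex.abs_re_le_norm ((l ψ t : ℂˣ) : ℂ)
          rw [Linear.norm_hom_apply] at h6
          have := (abs_le.1 h6).2
          linarith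
        · simp
      have h6 := (Finset.sum_eq_zero_iff_of_nonpos h5).1 h4 ψ0 (Finset.mem_univ _)
      rw [if_pos h0, Complex.sub_re, Complex.one_re] at h6
      have h7 := re_lt_one (Linear.norm_hom_apply (l ψ0) t) (fun h8 => ht (Units.ext h8))
      linarith
    have h3 : a0 = 0 := by
      rcases mul_eq_zero.1 h1.symm with h4 | h4
      · exact h4
      · exact absurd h4 h2
    intro z
    rw [hdiff, h3, zero_mul]
  · push Not at h
    intro z
    rw [hdiff, Finset.sum_eq_zero, mul_zero]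
    intro ψ _
    rw [if_neg (h ψ)]

end Cfsg.Agent.H910.CC
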