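import Cfsg.Agent.H161.CC.UE
import Cfsg.Agent.H603.CC.Basic
import Cfsg.Agent.H910.CC.Abs
import Cfsg.Agent.H910.CC.Four
import Cfsg.Agent.H212.CC.Star
import Cfsg.Agent.H174.CC.CharF
import Cfsg.Agent.H118.CC.Form

/-!
# S4793 RANK1: characters of `Z_E` in characters without reflection-fixed vectors (helper910)
-/

set_option autoImplicit false

open Cfsg
open scoped ComplexConjugate

namespace Cfsg.Agent.H910.CC

open Module Cfsg.Agent.H603.CC Cfsg.Agent.Characters.Core Cfsg.Agent.Characters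
open Cfsg.Agent.H161.CC (UE FixS_le_UE FixS_comm_UE FixS_comm_Ref Ref_norm_UE Ref_inf_UE exists_ue mem_FixS_of_ue commutator_ue
  conj_ue)
open Cfsg.Agent.H174.CC (IsZ exists_z exists_zz z_ext z_mul_right z_mul_left z_inv z_smul exists_z_self FixS_le_closure
  exists_psi)

universe u v

variable {F : Type u} {V : Type v} [Field F] [AddCommGroup V] [Module F V] {q : ℕ} {σ : F →+* F}
  {B : V →ₛₗ[σ] V →ₗ[F] F} [Finite F] [Finite V]

/-- a maximal totally singular subspace: `E^⊥ = E + ⟨f⟩` -/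
theorem exists_f (h : HS q σ B) {m : ℕ} (hn : finrank F V = 2 * m + 1) {E : Submodule F V} (hE : IsTS B E)
    (hm : finrank F E = m) : ∃ f ∈ perp B E, B f f = 1 ∧ perp B E = E ⊔ Submodule.span F {f} := by
  have h1 := Cfsg.Agent.H212.CC.finrank_perp h E
  have h2 : ¬ IsTS B (perp B E) := by
    intro h3
    have h4 : perp B E ≤ E := by
      rw [← Cfsg.Agent.H212.CC.perp_perp h E]
      intro x hx
      exact fun w hw => h3 w hw x (by rwa [Cfsg.Agent.H212.CC.perp_perp h E] at hx)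
    have h5 := Submodule.finrank_mono h4
    omega
  obtain ⟨f, hf, hff⟩ := exists_unit h h2
  refine ⟨f, hf, hff, ?_⟩
  have h3 : E ⊔ Submodule.span F {f} ≤ perp B E := by
    refine sup_le (fun x hx w hw => hE w hw x hx) ?_
    rw [Submodule.span_singleton_le_iff_mem]
    exact hf
  have h4 : E < E ⊔ Submodule.span F {f} := by
    refine lt_of_le_of_ne le_sup_left fun h5 => ?_
    have h6 : f ∈ E := by
      rw [h5]
      exact (le_sup_right : Submodule.span F {f} ≤ _) (Submodule.mem_span_singleton_self f)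
    rw [hE f h6 f h6] at hff
    exact zero_ne_one hff
  have h5 := Submodule.finrank_lt_finrank_of_lt h4
  exact (Submodule.eq_of_le_of_finrank_le h3 (by omega)).symm

/-- the homomorphism `u ↦ u f - f` -/
noncomputable def ueHom {E : Submodule F V} {f : V} (hf : f ∈ perp B E) : ↥(UE B E) →* Multiplicative E where
  toFun u := Multiplicative.ofAdd ⟨ac B (u : UU B) f - f, u.2.2 f hf⟩
  map_one' := by
    apply Multiplicative.toAdd.injective
    apply Subtype.ext
    change ac B (1 : UU B) f - f = 0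
    rw [ac_one, sub_self]
  map_mul' u w := by
    apply Multiplicative.toAdd.injective
    apply Subtype.ext
    change ac B ((u : UU B) * (w : UU B)) f - f = (ac B (u : UU B) f - f) + (ac B (w : UU B) f - f)
    rw [ac_mul]
    have h1 : ac B (w : UU B) f = f + (ac B (w : UU B) f - f) := by abel
    have h2 := u.2.1 _ (w.2.2 f hf)
    conv_lhs => rw [h1, ac_add, h2]
    abel

theorem ueHom_apply {E : Submodule F V} {f : V} (hf : f ∈ perp B E) (u : UE B E) :
    ((Multiplicative.toAdd (ueHom hf u) : E) : V) = ac B (u : UU B) f - f := rfl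

theorem ueHom_surjective (h : HS q σ B) {E : Submodule F V} (hE : IsTS B E) {f : V} (hf : B f f = 1)
    (hfE : f ∈ perp B E) : Function.Surjective (ueHom hfE) := by
  intro e
  obtain ⟨u, hu, huf⟩ := exists_ue h hE hf hfE (Multiplicative.toAdd e).2
  refine ⟨⟨u, hu⟩, Multiplicative.toAdd.injective (Subtype.ext ?_)⟩
  rw [ueHom_apply]
  change ac B u f - f = _
  rw [huf]
  abel

/-- the commutator of two elements of `U_E` is `z(e, e')` or its inverse -/
theorem comm_isZ (h : HS q σ B) {E : Submodule F V} (hE : IsTS B E) {f : V} (hf : B f f = 1)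
    (hfE : perp B E = E ⊔ Submodule.span F {f}) {u w : UU B} (hu : u ∈ UE B E) (hw : w ∈ UE B E) {e e' : V}
    (hue : ac B u f = f + e) (hwe : ac B w f = f + e') :
    IsZ B (u * w * u⁻¹ * w⁻¹) e e' ∨ IsZ B (u * w * u⁻¹ * w⁻¹) e' e := by
  by_contra hcon
  rw [not_or] at hcon
  obtain ⟨h1, h2⟩ := hcon
  unfold IsZ at h1 h2
  push Not at h1 h2
  obtain ⟨x, hx⟩ := h1
  obtain ⟨y, hy⟩ := h2
  have hc := commutator_ue h hE hf hfE hu hw hue hwe
  have hx' : ac B (u * w * u⁻¹ * w⁻¹) x = x + B e' x • e - B e x • e' := by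
    rcases hc x with h3 | h3
    · exact absurd h3 hx
    · rw [h3]; abel
  have hy' : ac B (u * w * u⁻¹ * w⁻¹) y = y + B e y • e' - B e' y • e := by
    rcases hc y with h3 | h3
    · exact h3
    · exfalso; apply hy; rw [h3]; abel
  rcases hc (x + y) with h3 | h3
  · apply hx
    rw [ac_add, hy'] at h3
    have h4 : ac B (u * w * u⁻¹ * w⁻¹) x = x + y + B e (x + y) • e' - B e' (x + y) • e -
        (y + B e y • e' - B e' y • e) := by rw [← h3]; abel
    rw [h4, map_add, map_add, add_smul, add_smul]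
    abel
  · apply hy
    rw [ac_add, hx'] at h3
    have h4 : ac B (u * w * u⁻¹ * w⁻¹) y = x + y - B e (x + y) • e' + B e' (x + y) • e -
        (x + B e' x • e - B e x • e') := by rw [← h3]; abel
    rw [h4, map_add, map_add, add_smul, add_smul]
    abel

/-- The family of hermitian forms attached to the linear characters of `Z_E`. -/
def FormOf (ψ : AddChar F ℂ) {E : Submodule F V} (l : FixS B (perp B E) →* ℂˣ) (C : E →ₛₗ[σ] E →ₗ[F] F) : Prop :=
  C.IsSymm ∧ (C = 0 → l = 1) ∧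
    ∀ (z : FixS B (perp B E)) (e e' : E), IsZ B (z : UU B) (e : V) (e' : V) → ((l z : ℂˣ) : ℂ) = ψ (C e e')

/-- a form with `ψ (C e e') = 1` for all `e'` -/
theorem mem_ker_of_psi {ψ : AddChar F ℂ} (hψ : ψ ≠ 1) {E : Submodule F V} {C : E →ₛₗ[σ] E →ₗ[F] F} {e : E}
    (he : ∀ e', ψ (C e e') = 1) : e ∈ LinearMap.ker C := by
  rw [LinearMap.mem_ker]
  by_contra h0
  have h1 : ∃ e1, C e e1 ≠ 0 := by
    by_contra h2
    push Not at h2
    exact h0 (LinearMap.ext h2)
  obtain ⟨e1, he1⟩ := h1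
  obtain ⟨c, hc⟩ := (AddChar.ne_one_iff).1 hψ
  have h2 := he ((c / C e e1) • e1)
  rw [map_smul, smul_eq_mul, div_mul_cancel₀ _ he1] at h2
  exact hc h2

/-- **The HEIS step.** -/
theorem heis_step (h : HS q σ B) {E : Submodule F V} (hE : IsTS B E) {f : V} (hf : B f f = 1)
    (hfE : perp B E = E ⊔ Submodule.span F {f}) {ψ : AddChar F ℂ} (hψ : ψ ≠ 1)
    {l : FixS B (perp B E) →* ℂˣ} {C : E →ₛₗ[σ] E →ₗ[F] F} (hC : FormOf ψ l C)
    {X : UU B → ℂ} (hX : IsCharacter (UU B) X) (hR : ∑ᶠ ρ : Ref B f, X ρ = 0)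
    (hl : ∑ᶠ z : FixS B (perp B E), X z * ((l z)⁻¹ : ℂˣ) ≠ 0) :
    ∃ d : ℕ, d ≤ q ∧ (q ^ 2) ^ (finrank F (E ⧸ LinearMap.ker C)) ≤ d ^ 2 ∧
      (d = q → ∀ ν : Ref B f →* ℂˣ, (∃ ρ, ν ρ ≠ 1) → ∑ᶠ ρ : Ref B f, X ρ * (ν ρ : ℂˣ) ≠ 0) := by
  have hfp : f ∈ perp B E := by
    rw [hfE]
    exact (le_sup_right : Submodule.span F {f} ≤ _) (Submodule.mem_span_singleton_self f)
  let A0 : Subgroup (Multiplicative E) := AddSubgroup.toSubgroup (LinearMap.ker C).toAddSubgroup
  let K0 : Subgroup (UE B E) := A0.comap (ueHom hfp)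
  have hsurj := ueHom_surjective h hE hf hfp
  have hidx : K0.index = Nat.card (E ⧸ LinearMap.ker C) := by
    rw [Subgroup.index_comap_of_surjective _ hsurj]
    rfl
  have hcardK : Nat.card (K0.map (UE B E).subtype) = Nat.card K0 :=
    Subgroup.card_map_of_injective (UE B E).subtype_injective
  obtain ⟨d, hd1, hd2, hd3⟩ := abs_heis (UE B E) (Ref B f) (FixS B (perp B E))
    (fun ρ hρ u hu => Ref_norm_UE h hE hf hfp hu hρ)
    (by
      rw [eq_bot_iff]
      rintro x ⟨h1, h2⟩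
      rw [Subgroup.mem_bot]
      exact Ref_inf_UE h hE hf hfp h2 h1)
    (FixS_le_UE hE) (fun z hz u hu => FixS_comm_UE h hE hz hu) (fun z hz ρ hρ => FixS_comm_Ref h hE hf hfp hz hρ)
    (by
      intro u hu w hw x hx
      have h1 := comm_isZ h hE hf hfE hu hw (e := ac B u f - f) (e' := ac B w f - f) (by abel) (by abel)
      rcases h1 with h1 | h1
      · rw [h1 x, hx _ (hu.2 f hfp), hx _ (hw.2 f hfp)]
        simp
      · rw [h1 x, hx _ (hu.2 f hfp), hx _ (hw.2 f hfp)]
        simp)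
    (fun ρ hρ hρ1 u hu => conj_ue h hE hf hfE hρ hρ1 hu)
    (K0.map (UE B E).subtype) hX hR l hl
    (by
      intro u hu hu1
      refine ⟨⟨u, hu⟩, ?_, rfl⟩
      change Multiplicative.toAdd (ueHom hfp ⟨u, hu⟩) ∈ LinearMap.ker C
      refine mem_ker_of_psi hψ fun e' => ?_
      obtain ⟨w, hw, hwf⟩ := exists_ue h hE hf hfp e'.2
      set e : E := Multiplicative.toAdd (ueHom hfp ⟨u, hu⟩) with he
      have hue : ac B u f = f + (e : V) := by
        rw [he, ueHom_apply]
        change ac B u f = f + (ac B u f - f)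
        abel
      have hcz : u * w * u⁻¹ * w⁻¹ ∈ FixS B (perp B E) := by
        intro x hx
        rcases comm_isZ h hE hf hfE hu hw hue hwf with h1 | h1
        · rw [h1 x, hx _ e.2, hx _ e'.2]; simp
        · rw [h1 x, hx _ e.2, hx _ e'.2]; simp
      have h2 := hu1 w hw hcz
      obtain ⟨z0, hz0⟩ := exists_z h hE e.2 e'.2
      rw [← hC.2.2 z0 e e' hz0]
      rcases comm_isZ h hE hf hfE hu hw hue hwf with h1 | h1
      · have h3 : z0 = ⟨_, hcz⟩ := Subtype.ext (z_ext hz0 h1)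
        rw [h3, h2, Units.val_one]
      · have h3 : z0 = (⟨_, hcz⟩ : FixS B (perp B E))⁻¹ := by
          apply Subtype.ext
          exact z_inv hE e'.2 e.2 h1 hz0
        rw [h3, map_inv, h2, inv_one, Units.val_one])
  rw [Cfsg.Agent.H212.CC.card_Ref h hf] at hd1 hd3
  refine ⟨d, by omega, ?_, fun hdq => hd3 (by omega)⟩
  have h1 : Nat.card (E ⧸ LinearMap.ker C) = (q ^ 2) ^ (finrank F (E ⧸ LinearMap.ker C)) := by
    rw [Module.natCard_eq_pow_finrank (K := F), h.card]
  rw [← h1, ← hidx]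
  have h2 := K0.card_mul_index
  rw [hcardK, ← h2] at hd2
  exact Nat.le_of_mul_le_mul_left hd2 Nat.card_pos

end Cfsg.Agent.H910.CC
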